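import Mathlib.AlgebraicGeometry.Noetherian
import Mathlib.AlgebraicGeometry.Morphisms.QuasiCompact
import Mathlib.AlgebraicGeometry.Properties
import Mathlib.AlgebraicGeometry.Stalk
import Groth.Agent.Lib.PtSet.Spectral

/-!
Point-set facts about morphisms of schemes.
-/

open CategoryTheory AlgebraicGeometry TopologicalSpace

namespace Groth.Agent.SchPt

universe u

/-- In a quasi-compact morphism every point in the closure of the image is a specialization of a
point in the image. -/
theorem exists_specializes_of_mem_closure_range {X Y : Scheme.{u}} (f : X ⟶ Y) [QuasiCompact f]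
    {y : Y} (hy : y ∈ closure (Set.range f)) : ∃ x : X, f x ⤳ y := by
  obtain ⟨_, ⟨V : Y.Opens, hV, rfl⟩, hyV, -⟩ :=
    Y.isBasis_affineOpens.exists_subset_of_mem_open (Set.mem_univ y) isOpen_univ
  have hcW : CompactSpace (f ⁻¹ᵁ V).toScheme :=
    isCompact_iff_compactSpace.1 (f.isCompact_preimage hV.isCompact)
  obtain ⟨R, g, hg⟩ := compactSpace_iff_exists.mp hcW
  let h : Spec R ⟶ V.toScheme := g ≫ (f ∣_ V)
  haveI : SpectralSpace V.toScheme := by
    haveI : CompactSpace V.toScheme := isCompact_iff_compactSpace.1 hV.isCompact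
    haveI : IsAffine V.toScheme := hV
    exact SpectralSpace.mk
  haveI : SpectralSpace (Spec R) := SpectralSpace.mk
  haveI : IsAffine V.toScheme := hV
  have hsp : IsSpectralMap h := quasiCompact_iff_isSpectralMap.1 inferInstance
  have hcl : (⟨y, hyV⟩ : V.toScheme) ∈ closure (Set.range h) := by
    rw [V.ι.isOpenEmbedding.isInducing.closure_eq_preimage_closure_image]
    change y ∈ closure (V.ι '' Set.range h)
    have e : V.ι '' Set.range h = Set.range f ∩ (V : Set Y) := by
      ext z
      constructor
      · rintro ⟨w, ⟨r, rfl⟩, rfl⟩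
        refine ⟨⟨(g r).1, ?_⟩, (h r).2⟩
        exact (morphismRestrict_base_coe f V (g r)).symm
      · rintro ⟨⟨x, rfl⟩, hx⟩
        obtain ⟨r, hr⟩ := hg ⟨x, hx⟩
        refine ⟨⟨f x, hx⟩, ⟨r, Subtype.ext ?_⟩, rfl⟩
        change ((f ∣_ V) (g r)).1 = f x
        rw [hr]
        exact morphismRestrict_base_coe f V ⟨x, hx⟩
    refine closure_mono e.ge ?_
    rw [Set.inter_comm]
    exact V.isOpen.inter_closure ⟨hyV, hy⟩
  obtain ⟨w, hw', hw⟩ := PtSet.exists_specializes_of_mem_closure (X := V.toScheme)
    (PtSet.isClosed_toPatch_image hsp (E := Set.univ) isClosed_univ)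
    (by rwa [Set.image_univ])
  obtain ⟨r, -, rfl⟩ := hw'
  refine ⟨(g r).1, ?_⟩
  rw [← morphismRestrict_base_coe f V (g r)]
  exact hw.map V.ι.continuous

/-- A compact set covered by opens which are Noetherian spaces is a Noetherian space. -/
theorem noetherianSpace_of_isCompact {X : Type*} [TopologicalSpace X]
    (hX : ∀ x : X, ∃ U : Opens X, x ∈ U ∧ NoetherianSpace U) {K : Set X} (hK : IsCompact K) :
    NoetherianSpace K := by
  choose U hxU hN using hX
  obtain ⟨s, hs⟩ := hK.elim_finite_subcover (fun x ↦ (U x : Set X)) (fun x ↦ (U x).isOpen)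
    fun x _ ↦ Set.mem_iUnion.2 ⟨x, hxU x⟩
  rw [noetherianSpace_set_iff]
  intro t ht
  have e : t = ⋃ x ∈ s, t ∩ (U x : Set X) := by
    rw [← Set.inter_iUnion₂, Set.inter_eq_left.2 (ht.trans hs)]
  rw [e]
  refine s.isCompact_biUnion fun x _ ↦ ?_
  exact (noetherianSpace_set_iff _).1 (hN x) _ Set.inter_subset_right

/-- Points whose closure is an irreducible component have no proper generalizations. -/
theorem closure_mem_irreducibleComponents_iff {X : Type*} [TopologicalSpace X] [QuasiSober X]
    [T0Space X] {x : X} :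
    closure {x} ∈ irreducibleComponents X ↔ ∀ z, z ⤳ x → z = x := by
  constructor
  · intro h z hz
    refine (hz.antisymm (specializes_iff_mem_closure.2 ?_)).eq
    exact h.2 isIrreducible_singleton.closure (closure_minimal
      (Set.singleton_subset_iff.2 (specializes_iff_mem_closure.1 hz)) isClosed_closure)
      (subset_closure rfl)
  · intro h
    refine ⟨isIrreducible_singleton.closure, fun W hW hsub ↦ ?_⟩
    obtain ⟨η, hη⟩ := QuasiSober.sober hW.closure isClosed_closure
    have := h η (hη.specializes (subset_closure (hsub (subset_closure rfl))))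
    subst this
    exact subset_closure.trans hη.def.ge

end Groth.Agent.SchPt
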